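import Mathlib
import Cfsg.Agent.Lib.Helper67.LSF.Defs

/-!
# LSF (S5286): package [STAB] — elements of the group with trivial free part lie in `lam S`
-/

set_option autoImplicit false

namespace Cfsg.Agent.Lib.Helper83.LSF

open Cfsg Cfsg.Agent.Lib.Helper67.LSF

universe u

/-- [STAB] the elements of the group with trivial free part are those of `lam S`. -/
theorem pkgStab (hPath : PkgPath.{u}) (hRed : PkgRed.{u}) (hInv : PkgInv.{u}) : PkgStab.{u} := by
  classical
  intro Ω _ S F g hg hleft
  obtain ⟨L, q, hp, rfl⟩ := hPath S F g hg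
  obtain ⟨L', hp', hred, hmk⟩ := hRed S F L q hp
  have h1 : autF F q (FreeGroup.mk L) = 1 := by
    have h0 := hleft
    rw [SemidirectProduct.mul_left] at h0
    simpa using h0
  have h2 : FreeGroup.mk L = (1 : FreeGroup (X F)) := by
    have h0 := congrArg (autF F q).symm h1
    simpa using h0
  have h3 : L' = [] := by
    have h4 : FreeGroup.mk L' = (1 : FreeGroup (X F)) := hmk.trans h2
    have h5 := congrArg FreeGroup.toWord h4
    rw [FreeGroup.toWord_mk, hred.reduce_eq, FreeGroup.toWord_one] at h5
    exact h5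
  subst h3
  obtain ⟨s, hs⟩ := (hInv S F).1 q hp'
  refine ⟨s, ?_⟩
  rw [h2, map_one, mul_one, hs]
  rfl

end Cfsg.Agent.Lib.Helper83.LSF
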